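import Cfsg.Agent.SporB.Fi22.Rep.Check
import Cfsg.Agent.SporB.Fi22.G.Cert
import Cfsg.Agent.SporB.Fi22.GO.Cert
import Cfsg.Agent.SporB.Fi22.O.Cert
import Cfsg.Agent.SporB.Fi22.P.Cert
import Cfsg.Agent.SporB.Fi22.E6.Cert
import Cfsg.Agent.SporB.Fi22.D5.Cert
import Cfsg.Agent.SporB.Fi22.A4.Cert
import Cfsg.Agent.Lib.CosetEnum.Local

set_option autoImplicit false
set_option maxRecDepth 100000

namespace Cfsg.Agent.CosetEnum.Fi22

/-- The table as a representation of the presented group. -/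
theorem rep : pres.Rep Rep.tbl where
  ok := ⟨by decide, fun i hi => Rep.rels_eq ▸ Rep.point i hi⟩
  nl := rfl
  invs := Rep.invs_ok

theorem nodup : pres.gens.Nodup := by decide

theorem top_eq : pres.sub G.sel = ⊤ := pres.sub_all _ rfl

theorem bound_G : (pres.wsub Rep.ws).index ≠ 0 ∧ (pres.wsub Rep.ws).index ≤ 3510 := by
  have h := pres.relIndex_le G.cert (sel := G.sel) rfl G.inv_ok (rels := G.rels) (by decide +kernel) G.rules_ok
    (K := pres.wsub Rep.ws) (fun W hW => by
      have hh := (by decide +kernel : ∀ V ∈ G.subs,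
        (∀ l ∈ V, l < G.sel.length) ∧ V.map (fun l => G.sel.getD l 0) ∈ Rep.ws) W hW
      rw [pres.evalWord_subVal G.sel hh.1]
      exact Subgroup.subset_closure ⟨_, hh.2, rfl⟩)
  rwa [top_eq, Subgroup.relIndex_top_right] at h

theorem bound_GO : (pres.sub O.sel).relIndex ⊤ ≠ 0 ∧ (pres.sub O.sel).relIndex ⊤ ≤ 14080 := by
  have h := pres.relIndex_le GO.cert rfl GO.inv_ok (rels := GO.rels) (by decide +kernel) GO.rules_ok
    (pres.subs_mem GO.sel O.sel (by decide +kernel))
  rwa [show pres.sub GO.sel = ⊤ from pres.sub_all _ rfl] at h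

theorem bound_O : (pres.sub P.sel).relIndex (pres.sub O.sel) ≠ 0 ∧
    (pres.sub P.sel).relIndex (pres.sub O.sel) ≤ 364 :=
  pres.relIndex_le O.cert rfl O.inv_ok (rels := O.rels) (by decide +kernel) O.rules_ok
    (pres.subs_mem O.sel P.sel (by decide +kernel))

theorem bound_P : (pres.sub E6.sel).relIndex (pres.sub P.sel) ≠ 0 ∧
    (pres.sub E6.sel).relIndex (pres.sub P.sel) ≤ 243 :=
  pres.relIndex_le P.cert rfl P.inv_ok (rels := P.rels) (by decide +kernel) P.rules_ok
    (pres.subs_mem P.sel E6.sel (by decide +kernel))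

theorem bound_E6 : (pres.sub D5.sel).relIndex (pres.sub E6.sel) ≠ 0 ∧
    (pres.sub D5.sel).relIndex (pres.sub E6.sel) ≤ 27 :=
  pres.relIndex_le E6.cert rfl E6.inv_ok (rels := E6.rels) (by decide +kernel) E6.rules_ok
    (pres.subs_mem E6.sel D5.sel (by decide +kernel))

theorem bound_D5 : (pres.sub A4.sel).relIndex (pres.sub D5.sel) ≠ 0 ∧
    (pres.sub A4.sel).relIndex (pres.sub D5.sel) ≤ 16 :=
  pres.relIndex_le D5.cert rfl D5.inv_ok (rels := D5.rels) (by decide +kernel) D5.rules_ok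
    (pres.subs_mem D5.sel A4.sel (by decide +kernel))

theorem bound_A4 : (⊥ : Subgroup pres.Gp).relIndex (pres.sub A4.sel) ≠ 0 ∧
    (⊥ : Subgroup pres.Gp).relIndex (pres.sub A4.sel) ≤ 120 :=
  pres.relIndex_le A4.cert rfl A4.inv_ok (rels := A4.rels) (by decide +kernel) A4.rules_ok
    (fun W hW => absurd hW (List.not_mem_nil (a := W)))

theorem card_sub_le : Nat.card (pres.sub O.sel) ≠ 0 ∧ Nat.card (pres.sub O.sel) ≤ 4585351680 := by
  have h1 : pres.sub A4.sel ≤ pres.sub D5.sel := pres.sub_mono (by decide)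
  have h2 : pres.sub D5.sel ≤ pres.sub E6.sel := pres.sub_mono (by decide)
  have h3 : pres.sub E6.sel ≤ pres.sub P.sel := pres.sub_mono (by decide)
  have h4 : pres.sub P.sel ≤ pres.sub O.sel := pres.sub_mono (by decide)
  rw [show Nat.card (pres.sub O.sel) = (⊥ : Subgroup pres.Gp).relIndex (pres.sub A4.sel) *
      (pres.sub A4.sel).relIndex (pres.sub D5.sel) * (pres.sub D5.sel).relIndex (pres.sub E6.sel) *
      (pres.sub E6.sel).relIndex (pres.sub P.sel) * (pres.sub P.sel).relIndex (pres.sub O.sel) by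
    rw [Subgroup.relIndex_mul_relIndex _ _ _ bot_le h1, Subgroup.relIndex_mul_relIndex _ _ _ bot_le h2,
      Subgroup.relIndex_mul_relIndex _ _ _ bot_le h3, Subgroup.relIndex_mul_relIndex _ _ _ bot_le h4,
      Subgroup.relIndex_bot_left]]
  refine ⟨?_, ?_⟩
  · simp only [Nat.mul_ne_zero_iff]
    exact ⟨⟨⟨⟨bound_A4.1, bound_D5.1⟩, bound_E6.1⟩, bound_P.1⟩, bound_O.1⟩
  · calc _ ≤ 120 * 16 * 27 * 243 * 364 := Nat.mul_le_mul (Nat.mul_le_mul (Nat.mul_le_mul
          (Nat.mul_le_mul bound_A4.2 bound_D5.2) bound_E6.2) bound_P.2) bound_O.2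
      _ = _ := by norm_num

theorem card_le : Nat.card pres.Gp ≠ 0 ∧ Nat.card pres.Gp ≤ 64561751654400 := by
  have h := bound_GO
  rw [Subgroup.relIndex_top_right] at h
  rw [← Subgroup.card_mul_index (pres.sub O.sel)]
  refine ⟨Nat.mul_ne_zero card_sub_le.1 h.1, ?_⟩
  calc _ ≤ 4585351680 * 14080 := Nat.mul_le_mul card_sub_le.2 h.2
    _ = _ := by norm_num

theorem finite : Finite pres.Gp := Nat.finite_of_card_ne_zero card_le.1

theorem stab_eq : pres.wsub Rep.ws = rep.stab nodup ∧ (pres.wsub Rep.ws).index = 3510 :=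
  rep.eq_stab nodup Rep.descend (pres.wsub_le_stab rep nodup _ (by decide +kernel))
    bound_G.1 bound_G.2

theorem stab_closure : rep.stab nodup =
    Subgroup.closure {g | ∃ W ∈ Rep.ws, evalWord pres.val W = g} :=
  stab_eq.1.symm

theorem card_eq : Nat.card pres.Gp = 64561751654400 ∧ Function.Injective (rep.hom nodup) :=
  haveI := finite
  rep.card_eq nodup Rep.slp_ok Rep.levels_ok Rep.levels_prod card_le.2

theorem index_O : (pres.sub O.sel).index = 14080 ∧ Nat.card (pres.sub O.sel) = 4585351680 := by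
  have h := bound_GO
  rw [Subgroup.relIndex_top_right] at h
  have e := Subgroup.card_mul_index (pres.sub O.sel)
  rw [card_eq.1] at e
  constructor <;> nlinarith [h.2, card_sub_le.2]

theorem orbit_at (c m : ℕ) (hc : c < 3) (hr : Rep.roots.getD c 0 < 3510)
    (hl : Nat.beq (Rep.orb.getLab (Rep.roots.getD c 0)) c = true)
    (hm : countBelow (fun i => Nat.beq (Rep.orb.getLab i) c) 3510 = m) :
    ∃ q : pres.Gp ⧸ rep.stab nodup, (MulAction.orbit (rep.stab nodup) q).ncard = m := by
  obtain ⟨q, -, -, h2⟩ := rep.exists_orbit nodup Rep.descend Rep.ws Rep.ws_ok stab_closure Rep.orb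
    c (Rep.roots.getD c 0) hr hl
    (fun i hi => allRange_spec (Rep.orbit i hi) c (Nat.zero_le _) (by omega))
  exact ⟨q, h2.trans hm⟩

theorem subdegrees : (∃ q : pres.Gp ⧸ rep.stab nodup,
      (MulAction.orbit (rep.stab nodup) q).ncard = 693) ∧
    ∃ q : pres.Gp ⧸ rep.stab nodup, (MulAction.orbit (rep.stab nodup) q).ncard = 2816 :=
  ⟨orbit_at 2 693 (by omega) (by decide +kernel) (by decide +kernel) Rep.size2,
    orbit_at 1 2816 (by omega) (by decide +kernel) (by decide +kernel) Rep.size1⟩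

theorem stab_card : Nat.card (rep.stab nodup) = 18393661440 := by
  have h := Subgroup.card_mul_index (rep.stab nodup)
  rw [rep.index_stab nodup Rep.descend, card_eq.1] at h
  exact Nat.eq_of_mul_eq_mul_right (by decide : 0 < 3510) (h.trans (by norm_num))

theorem div_ok : ∀ A : Finset ℕ, A ⊆ Finset.range Rep.roots.length → 0 ∈ A →
    (∑ c ∈ A, countBelow (fun i => Nat.beq (Rep.orb.getLab i) c) Rep.tbl.n) ∣ Rep.tbl.n →
    A = {0} ∨ A = Finset.range Rep.roots.length := by
  intro A hA h0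
  have hA' : A ∈ (Finset.range 3).powerset := Finset.mem_powerset.mpr hA
  have e : ∀ c ∈ A, countBelow (fun i => Nat.beq (Rep.orb.getLab i) c) Rep.tbl.n =
      [1, 2816, 693].getD c 0 := by
    intro c hc
    have : c < 3 := Finset.mem_range.mp (hA hc)
    interval_cases c
    exacts [Rep.size0, Rep.size1, Rep.size2]
  rw [Finset.sum_congr rfl e]
  revert h0
  revert A
  decide +kernel

theorem maximal (K : Subgroup pres.Gp) (hK : rep.stab nodup ≤ K) : K = rep.stab nodup ∨ K = ⊤ :=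
  rep.stab_maximal nodup Rep.descend Rep.ws_ok stab_closure Rep.orb Rep.roots (by decide)
    Rep.lab_ok Rep.roots_ok Rep.orbit div_ok Rep.size0 hK

theorem simple : IsSimpleGroup pres.Gp :=
  haveI := finite
  rep.isSimple nodup Rep.descend (by decide) card_eq.2 maximal Rep.slp_ok 13 18393661440 stab_card
    (by decide +kernel) Rep.ys Rep.steps Rep.ys_ok (Rep.rels_eq ▸ Rep.steps_ok) Rep.chk_ok

end Cfsg.Agent.CosetEnum.Fi22
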