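import Cfsg.Agent.SporB.Fi22.Main

set_option autoImplicit false
set_option maxRecDepth 100000

namespace Cfsg.Agent.CosetEnum.Fi22

theorem val0 : pres.val 0 = PresentedGroup.mk (Cfsg.Spor.coxRelators Cfsg.Spor.Fi22.edges ∪ {r | r ∈ Cfsg.Spor.Fi22.extra}) Cfsg.Spor.Fi22.a := rfl

theorem val1 : pres.val 1 = PresentedGroup.mk (Cfsg.Spor.coxRelators Cfsg.Spor.Fi22.edges ∪ {r | r ∈ Cfsg.Spor.Fi22.extra}) Cfsg.Spor.Fi22.b := rfl

theorem val2 : pres.val 2 = PresentedGroup.mk (Cfsg.Spor.coxRelators Cfsg.Spor.Fi22.edges ∪ {r | r ∈ Cfsg.Spor.Fi22.extra}) Cfsg.Spor.Fi22.c := rfl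

theorem val3 : pres.val 3 = PresentedGroup.mk (Cfsg.Spor.coxRelators Cfsg.Spor.Fi22.edges ∪ {r | r ∈ Cfsg.Spor.Fi22.extra}) Cfsg.Spor.Fi22.d := rfl

theorem val4 : pres.val 4 = PresentedGroup.mk (Cfsg.Spor.coxRelators Cfsg.Spor.Fi22.edges ∪ {r | r ∈ Cfsg.Spor.Fi22.extra}) Cfsg.Spor.Fi22.e := rfl

theorem val5 : pres.val 5 = PresentedGroup.mk (Cfsg.Spor.coxRelators Cfsg.Spor.Fi22.edges ∪ {r | r ∈ Cfsg.Spor.Fi22.extra}) Cfsg.Spor.Fi22.f := rfl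

theorem val6 : pres.val 6 = PresentedGroup.mk (Cfsg.Spor.coxRelators Cfsg.Spor.Fi22.edges ∪ {r | r ∈ Cfsg.Spor.Fi22.extra}) Cfsg.Spor.Fi22.g := rfl

theorem val7 : pres.val 7 = PresentedGroup.mk (Cfsg.Spor.coxRelators Cfsg.Spor.Fi22.edges ∪ {r | r ∈ Cfsg.Spor.Fi22.extra}) Cfsg.Spor.Fi22.h := rfl

theorem val8 : pres.val 8 = PresentedGroup.mk (Cfsg.Spor.coxRelators Cfsg.Spor.Fi22.edges ∪ {r | r ∈ Cfsg.Spor.Fi22.extra}) Cfsg.Spor.Fi22.i := rfl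

theorem eval_long : evalWord pres.val (repWord [0, 1, 2, 3, 4, 7] 5) =
    PresentedGroup.mk (Cfsg.Spor.coxRelators Cfsg.Spor.Fi22.edges ∪ {r | r ∈ Cfsg.Spor.Fi22.extra}) ((Cfsg.Spor.Fi22.a * Cfsg.Spor.Fi22.b * Cfsg.Spor.Fi22.c * Cfsg.Spor.Fi22.d * Cfsg.Spor.Fi22.e * Cfsg.Spor.Fi22.h) ^ 5) := by
  simp only [evalWord_repWord, evalWord, mul_one]
  simp only [val0, val1, val2, val3, val4, val5, val6, val7, val8, map_pow, map_mul, mul_assoc]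
  rfl

theorem H_eq : (Subgroup.closure ({Cfsg.Spor.Fi22.a, Cfsg.Spor.Fi22.c, Cfsg.Spor.Fi22.d, Cfsg.Spor.Fi22.e, Cfsg.Spor.Fi22.f, Cfsg.Spor.Fi22.g, Cfsg.Spor.Fi22.h, Cfsg.Spor.Fi22.i, (Cfsg.Spor.Fi22.a * Cfsg.Spor.Fi22.b * Cfsg.Spor.Fi22.c * Cfsg.Spor.Fi22.d * Cfsg.Spor.Fi22.e * Cfsg.Spor.Fi22.h) ^ 5} : Set (FreeGroup Cfsg.Spor.Fi22.Gen))).map (PresentedGroup.mk (Cfsg.Spor.coxRelators Cfsg.Spor.Fi22.edges ∪ {r | r ∈ Cfsg.Spor.Fi22.extra})) =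
    pres.wsub Rep.ws := by
  rw [MonoidHom.map_closure, InvPres.wsub]
  simp only [Set.image_insert_eq, Set.image_singleton]
  apply congrArg Subgroup.closure
  ext g
  show _ ↔ ∃ W ∈ Rep.ws, evalWord pres.val W = g
  have hl : Rep.ws = [[0], [2], [3], [4], [5], [6], [7], [8], repWord [0, 1, 2, 3, 4, 7] 5] := by decide
  simp only [hl, List.mem_cons, List.not_mem_nil, or_false, exists_eq_or_imp, exists_eq_left,
    Set.mem_insert_iff, Set.mem_singleton_iff]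
  rw [eval_long]
  simp only [evalWord, mul_one]
  simp only [val0, val1, val2, val3, val4, val5, val6, val7, val8]
  repeat' apply or_congr
  all_goals exact eq_comm

theorem O_eq : (Subgroup.closure ({Cfsg.Spor.Fi22.b, Cfsg.Spor.Fi22.c, Cfsg.Spor.Fi22.d, Cfsg.Spor.Fi22.e, Cfsg.Spor.Fi22.f, Cfsg.Spor.Fi22.g, Cfsg.Spor.Fi22.h, Cfsg.Spor.Fi22.i} : Set (FreeGroup Cfsg.Spor.Fi22.Gen))).map (PresentedGroup.mk (Cfsg.Spor.coxRelators Cfsg.Spor.Fi22.edges ∪ {r | r ∈ Cfsg.Spor.Fi22.extra})) =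
    pres.sub O.sel := by
  rw [MonoidHom.map_closure, pres.sub_eq_closure]
  simp only [Set.image_insert_eq, Set.image_singleton]
  apply congrArg Subgroup.closure
  ext g
  show _ ↔ g ∈ [pres.val 1, pres.val 2, pres.val 3, pres.val 4, pres.val 5, pres.val 6, pres.val 7, pres.val 8]
  simp only [val0, val1, val2, val3, val4, val5, val6, val7, val8, List.mem_cons, List.not_mem_nil, or_false, Set.mem_insert_iff, Set.mem_singleton_iff]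
  erw [List.mem_cons, List.mem_cons, List.mem_cons, List.mem_cons, List.mem_cons, List.mem_cons, List.mem_cons, List.mem_singleton]

end Cfsg.Agent.CosetEnum.Fi22
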